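import Cfsg.Agent.NsePGL.Sharp
import Cfsg.Agent.FrobeniusCount

/-!
A group of order q(q² - 1) with q² - 1 elements of order p, all isolated in the prime graph, is
sharply triply transitive on its Sylow p-subgroups. The counting hypotheses come from the numbers of
elements of equal order.
-/

set_option autoImplicit false
set_option linter.style.haveILetI false

namespace Cfsg.Agent.NsePGL

open Subgroup MulAction

variable {G : Type*} [Group G] [Finite G]

theorem cnt_one : cnt G 1 = 1 := by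
  rw [cnt, Nat.card_eq_one_iff_unique]
  exact ⟨⟨fun a b => Subtype.ext
    ((orderOf_eq_one_iff.1 a.2).trans (orderOf_eq_one_iff.1 b.2).symm)⟩, ⟨⟨1, orderOf_one⟩⟩⟩

theorem cnt_pos (g : G) : 0 < cnt G (orderOf g) := by
  haveI : Nonempty {x : G // orderOf x = orderOf g} := ⟨⟨g, rfl⟩⟩
  exact Nat.card_pos

/-- Orders above two occur an even number of times. -/
theorem le_two_of_odd {n : ℕ} (h : Odd (cnt G n)) : n = 1 ∨ n = 2 := by
  classical
  haveI := Fintype.ofFinite G
  haveI : Fact (Nat.Prime 2) := ⟨Nat.prime_two⟩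
  let σ : Equiv.Perm {g : G // orderOf g = n} :=
    (Equiv.inv G).subtypePerm fun g => by rw [Equiv.inv_apply, orderOf_inv]
  have hσ : σ ^ 2 ^ 1 = 1 := Equiv.ext fun g => Subtype.ext (by
    show (g.1⁻¹)⁻¹ = g.1
    exact inv_inv _)
  obtain ⟨g, hg⟩ := Equiv.Perm.exists_fixed_point_of_prime (p := 2) (n := 1) (σ := σ) (by
    rw [cnt, Nat.card_eq_fintype_card, Nat.odd_iff] at h
    omega) hσ
  have hg' : g.1⁻¹ = g.1 := congrArg Subtype.val hg
  have : orderOf g.1 ∣ 2 := orderOf_dvd_of_pow_eq_one (by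
    rw [pow_two]; exact inv_eq_iff_mul_eq_one.1 hg')
  rw [g.2] at this
  exact (Nat.dvd_prime Nat.prime_two).1 this

/-- Fibres over the orders. -/
theorem card_subtype_eq_sum (P : ℕ → Prop) [DecidablePred P] [Fintype G] :
    Nat.card {g : G // P (orderOf g)} =
      ∑ n ∈ (Finset.univ.image (orderOf : G → ℕ)).filter P, cnt G n := by
  classical
  rw [Nat.card_eq_fintype_card, Fintype.card_subtype,
    Finset.card_eq_sum_card_fiberwise (f := (orderOf : G → ℕ))
      (t := (Finset.univ.image (orderOf : G → ℕ)).filter P)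
      (fun g hg => by simp only [Finset.coe_filter, Finset.mem_univ, true_and] at hg ⊢; simpa using hg)]
  refine Finset.sum_congr rfl fun n hn => ?_
  rw [cnt, Nat.card_eq_fintype_card, Fintype.card_subtype, Finset.filter_filter]
  congr 1
  ext g
  simp only [Finset.mem_filter, Finset.mem_univ, true_and, and_iff_right_iff_imp]
  exact fun h => h ▸ (Finset.mem_filter.1 hn).2

variable (G) in
/-- The numerical data. -/
structure Iso (p q : ℕ) : Prop where
  hp : p.Prime
  hp2 : p ≠ 2
  hq : ∃ f, 0 < f ∧ q = p ^ f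
  lt : 3 < q
  card : Nat.card G = q * (q ^ 2 - 1)
  iso : ∀ g : G, p ∣ orderOf g → orderOf g = p
  num : cnt G p = q ^ 2 - 1

theorem odd_of_pow {p q : ℕ} (hp : p.Prime) (hp2 : p ≠ 2) (hq : ∃ f, 0 < f ∧ q = p ^ f) : Odd q := by
  obtain ⟨f, -, rfl⟩ := hq
  exact (hp.odd_of_ne_two hp2).pow

theorem coprime_sq_sub {p q : ℕ} (hp : p.Prime) (hq : ∃ f, 0 < f ∧ q = p ^ f) :
    ¬ p ∣ q ^ 2 - 1 := by
  obtain ⟨f, hf, rfl⟩ := hq
  intro h
  have h1 : p ∣ (p ^ f) ^ 2 := dvd_pow (dvd_pow_self p hf.ne') two_ne_zero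
  have := Nat.dvd_sub h1 h
  rw [show (p ^ f) ^ 2 - ((p ^ f) ^ 2 - 1) = 1 by
    have := Nat.one_le_pow 2 (p ^ f) (pow_pos hp.pos f); omega] at this
  exact hp.ne_one (Nat.dvd_one.1 this)

/-- From the numbers of elements of equal order to the data. -/
theorem iso_of_nse {p q : ℕ} (hp : p.Prime) (hp2 : p ≠ 2) (hq : ∃ f, 0 < f ∧ q = p ^ f) (hlt : 3 < q)
    (hcard : Nat.card G = q * (q ^ 2 - 1))
    (hval : ∀ g : G, cnt G (orderOf g) = 1 ∨ cnt G (orderOf g) = q ^ 2 - 1 ∨ q ∣ cnt G (orderOf g))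
    (hsq : ∃ n, cnt G n = q ^ 2) : Iso G p q ∧ cnt G 2 = q ^ 2 := by
  classical
  haveI := Fintype.ofFinite G
  haveI := Fact.mk hp
  obtain ⟨f, hf, hqf⟩ := id hq
  have hodd := odd_of_pow hp hp2 hq
  have hsq1 : 16 ≤ q ^ 2 := by nlinarith
  have hqp : p ∣ q := hqf ▸ dvd_pow_self p hf.ne'
  have h2 : cnt G 2 = q ^ 2 := by
    obtain ⟨n, hn⟩ := hsq
    rcases le_two_of_odd (G := G) (n := n) (hn ▸ hodd.pow) with rfl | rfl
    · rw [cnt_one] at hn; omega
    · exact hn
  have hone : ∀ g : G, cnt G (orderOf g) = 1 → orderOf g = 1 := by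
    intro g hg
    rcases le_two_of_odd (G := G) (n := orderOf g) (hg ▸ odd_one) with h | h
    · exact h
    · rw [h, h2] at hg; omega
  obtain ⟨x, hx⟩ := exists_prime_orderOf_dvd_card' (G := G) p (hcard ▸ hqp.mul_right _)
  have hnum : cnt G p = q ^ 2 - 1 := by
    have hd : p ∣ Nat.card {u : G // u ^ p = 1} :=
      FrobeniusCount.dvd_card_pow_eq_one (hcard ▸ hqp.mul_right _)
    have e : Nat.card {u : G // u ^ p = 1} = 1 + cnt G p := by
      rw [Nat.card_eq_fintype_card, Fintype.card_subtype, cnt, Nat.card_eq_fintype_card,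
        Fintype.card_subtype]
      have : (Finset.univ.filter fun u : G => u ^ p = 1) =
          insert 1 (Finset.univ.filter fun u : G => orderOf u = p) := by
        ext u
        simp only [Finset.mem_filter, Finset.mem_univ, true_and, Finset.mem_insert]
        rw [← orderOf_dvd_iff_pow_eq_one, Nat.dvd_prime hp, orderOf_eq_one_iff]
      rw [this, Finset.card_insert_of_notMem (by simp [hp.ne_one.symm]), add_comm]
    rw [e] at hd
    rcases hval x with h | h | h <;> rw [hx] at h
    · rw [h] at hd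
      have := Nat.le_of_dvd two_pos hd
      have := hp.two_le
      omega
    · exact h
    · exact absurd (Nat.dvd_one.1 ((Nat.dvd_add_left (hqp.trans h)).1 hd)) hp.ne_one
  -- only p occurs q² - 1 times
  set D := Finset.univ.image (orderOf : G → ℕ) with hD
  set A := D.filter fun n => cnt G n = q ^ 2 - 1 with hA
  have htot : Nat.card G = ∑ n ∈ D, cnt G n := by
    have h := card_subtype_eq_sum (G := G) (fun _ => True)
    rw [Finset.filter_true_of_mem (fun _ _ => trivial)] at h
    rw [← h]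
    exact (Nat.card_congr (Equiv.subtypeUnivEquiv fun _ => trivial)).symm
  have hDval : ∀ n ∈ D, n = 1 ∨ cnt G n = q ^ 2 - 1 ∨ q ∣ cnt G n := by
    intro n hn
    obtain ⟨g, -, rfl⟩ := Finset.mem_image.1 hn
    exact (hval g).imp_left (hone g)
  have h1D : 1 ∈ D := Finset.mem_image.2 ⟨1, Finset.mem_univ _, orderOf_one⟩
  have h1A : 1 ∉ A := fun h => by
    have := (Finset.mem_filter.1 h).2
    rw [cnt_one] at this
    omega
  have hpA : p ∈ A := Finset.mem_filter.2 ⟨Finset.mem_image.2 ⟨x, Finset.mem_univ _, hx⟩, hnum⟩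
  have hAuniq : ∀ n ∈ A, n = p := by
    set R := (D.erase 1).filter fun n => ¬ cnt G n = q ^ 2 - 1 with hR
    obtain ⟨W, hW⟩ : q ∣ ∑ n ∈ R, cnt G n := Finset.dvd_sum fun n hn => by
      obtain ⟨hne, hn'⟩ := Finset.mem_filter.1 hn
      exact ((hDval n (Finset.mem_of_mem_erase hne)).resolve_left
        (Finset.ne_of_mem_erase hne)).resolve_left hn'
    have hsplit : ∑ n ∈ D, cnt G n = 1 + A.card * (q ^ 2 - 1) + q * W := by
      rw [← Finset.add_sum_erase _ _ h1D, cnt_one,
        ← Finset.sum_filter_add_sum_filter_not (D.erase 1) fun n => cnt G n = q ^ 2 - 1, ← hR, hW,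
        show (D.erase 1).filter (fun n => cnt G n = q ^ 2 - 1) = A by
          rw [Finset.filter_erase, ← hA, Finset.erase_eq_of_notMem h1A],
        Finset.sum_congr rfl (fun n hn => (Finset.mem_filter.1 hn).2), Finset.sum_const,
        smul_eq_mul, add_assoc]
    rw [← htot, hcard] at hsplit
    have hAlt : A.card < q := by
      by_contra hle
      have : q * (q ^ 2 - 1) ≤ A.card * (q ^ 2 - 1) := Nat.mul_le_mul_right _ (not_lt.1 hle)
      omega
    have hA1 : A.card = 1 := by
      have hAp : 1 ≤ A.card := Finset.card_pos.2 ⟨p, hpA⟩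
      have hdv : q ∣ A.card - 1 := by
        obtain ⟨k, hk⟩ : ∃ k, A.card = k + 1 := ⟨A.card - 1, by omega⟩
        rw [hk, add_mul, one_mul] at hsplit
        have e : k * q ^ 2 + q ^ 2 + q * W = q * (q ^ 2 - 1) + k := by
          have : k * (q ^ 2 - 1) + k = k * q ^ 2 := by
            rw [← Nat.mul_succ, Nat.succ_eq_add_one, Nat.sub_add_cancel (by omega)]
          omega
        rw [hk, Nat.add_sub_cancel]
        exact (Nat.dvd_add_right (dvd_mul_right q _)).1
          (e ▸ dvd_add (dvd_add (dvd_mul_of_dvd_right (dvd_pow_self q two_ne_zero) _)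
            (dvd_pow_self q two_ne_zero)) (dvd_mul_right q W))
      rcases Nat.eq_zero_or_pos (A.card - 1) with h | h
      · omega
      · have := Nat.le_of_dvd h hdv; omega
    intro n hn
    exact Finset.card_le_one.1 hA1.le n hn p hpA
  -- elements of order divisible by p
  have hiso : ∀ g : G, p ∣ orderOf g → orderOf g = p := by
    have hsum : q ∣ Nat.card {g : G // p ∣ orderOf g ∧ orderOf g ≠ p} := by
      rw [card_subtype_eq_sum (G := G) (fun n => p ∣ n ∧ n ≠ p)]
      refine Finset.dvd_sum fun n hn => ?_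
      obtain ⟨hnD, hpn, hnp⟩ := Finset.mem_filter.1 hn
      rcases hDval n hnD with h | h | h
      · exact absurd (Nat.dvd_one.1 (h ▸ hpn)) hp.ne_one
      · exact absurd (hAuniq n (Finset.mem_filter.2 ⟨hnD, h⟩)) hnp
      · exact h
    have hreg : Nat.card {g : G // ¬ p ∣ orderOf g} = Nat.card {g : G // g ^ (q ^ 2 - 1) = 1} := by
      refine Nat.card_congr (Equiv.subtypeEquivRight fun g => ?_)
      rw [← orderOf_dvd_iff_pow_eq_one]
      refine ⟨fun h => ?_, fun h hpd => coprime_sq_sub hp hq (hpd.trans h)⟩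
      have hd : orderOf g ∣ q * (q ^ 2 - 1) := hcard ▸ _root_.orderOf_dvd_natCard g
      exact (Nat.Coprime.pow_right f (hp.coprime_iff_not_dvd.2 h).symm).dvd_of_dvd_mul_left
        (hqf ▸ hd)
    have hall : Nat.card G = Nat.card {g : G // g ^ (q ^ 2 - 1) = 1} + ((q ^ 2 - 1) +
        Nat.card {g : G // p ∣ orderOf g ∧ orderOf g ≠ p}) := by
      rw [← hreg, ← hnum, cnt, Nat.card_eq_fintype_card, Nat.card_eq_fintype_card,
        Nat.card_eq_fintype_card, Nat.card_eq_fintype_card, Fintype.card_subtype,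
        Fintype.card_subtype, Fintype.card_subtype, ← Finset.card_univ,
        ← Finset.card_filter_add_card_filter_not (s := Finset.univ) (fun g : G => p ∣ orderOf g),
        ← Finset.card_filter_add_card_filter_not (s := Finset.univ.filter fun g : G => p ∣ orderOf g)
          (fun g : G => orderOf g = p), Finset.filter_filter, Finset.filter_filter,
        Finset.filter_congr (s := Finset.univ) (p := fun g : G => p ∣ orderOf g ∧ orderOf g = p)
          (q := fun g : G => orderOf g = p) fun g _ => ⟨And.right, fun h => ⟨h ▸ dvd_rfl, h⟩⟩]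
      exact add_comm _ _
    have h1 : q ^ 2 - 1 ∣ Nat.card {g : G // p ∣ orderOf g ∧ orderOf g ≠ p} := by
      have hd1 : q ^ 2 - 1 ∣ Nat.card {g : G // g ^ (q ^ 2 - 1) = 1} :=
        FrobeniusCount.dvd_card_pow_eq_one (hcard ▸ dvd_mul_left _ _)
      exact (Nat.dvd_add_right (dvd_refl _)).1
        ((Nat.dvd_add_right hd1).1 (hall ▸ hcard ▸ dvd_mul_left _ _))
    have hco : Nat.Coprime q (q ^ 2 - 1) :=
      hqf ▸ Nat.Coprime.pow_left f (hp.coprime_iff_not_dvd.2 (hqf ▸ coprime_sq_sub hp hq))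
    have h0 : Nat.card {g : G // p ∣ orderOf g ∧ orderOf g ≠ p} = 0 := by
      rcases Nat.eq_zero_or_pos (Nat.card {g : G // p ∣ orderOf g ∧ orderOf g ≠ p}) with h | h
      · exact h
      · have := Nat.le_of_dvd h (hco.mul_dvd_of_dvd_of_dvd hsum h1)
        omega
    intro g hg
    by_contra hne
    haveI : Nonempty {g : G // p ∣ orderOf g ∧ orderOf g ≠ p} := ⟨⟨g, hg, hne⟩⟩
    exact absurd h0 Nat.card_pos.ne'
  exact ⟨⟨hp, hp2, hq, hlt, hcard, hiso, hnum⟩, h2⟩

namespace Iso

variable {p q : ℕ} (S : Iso G p q)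
include S

theorem pow_p {g : G} (h : p ∣ orderOf g) : g ^ p = 1 := by
  rw [← S.iso g h]; exact pow_orderOf_eq_one g

theorem card_sylow [Fact p.Prime] (P : Sylow p G) : Nat.card (P : Subgroup G) = q := by
  obtain ⟨f, hf, hqf⟩ := S.hq
  have hn := coprime_sq_sub S.hp S.hq
  have h0 : q ^ 2 - 1 ≠ 0 := by have := S.lt; have : 16 ≤ q ^ 2 := by nlinarith
                                omega
  rw [show Nat.card (P : Subgroup G) = Nat.card P from rfl, P.card_eq_multiplicity, S.card, hqf,
    Nat.factorization_mul (pow_ne_zero _ S.hp.ne_zero) (hqf ▸ h0), Finsupp.add_apply,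
    S.hp.factorization_pow, Finsupp.single_eq_same,
    Nat.factorization_eq_zero_of_not_dvd (hqf ▸ hn), add_zero]

theorem orderOf_mem [Fact p.Prime] {P : Sylow p G} {u : G} (hu : u ∈ (P : Subgroup G)) (hu1 : u ≠ 1) :
    orderOf u = p := by
  obtain ⟨k, hk⟩ := IsPGroup.iff_orderOf.1 P.2 ⟨u, hu⟩
  rw [Subgroup.orderOf_mk] at hk
  refine S.iso u (hk ▸ dvd_pow_self p fun e => hu1 (orderOf_eq_one_iff.1 (by rw [hk, e, pow_zero])))

/-- The centraliser of an element of order p is a p-group. -/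
theorem isPGroup_centralizer [Fact p.Prime] {x : G} (hx : orderOf x = p) :
    IsPGroup p (centralizer ({x} : Set G)) := by
  intro ⟨g, hg⟩
  refine ⟨1, Subtype.ext ?_⟩
  rw [pow_one]
  show g ^ p = 1
  by_cases h : p ∣ orderOf g
  · exact S.pow_p h
  · have hc : Commute g x := mem_centralizer_singleton_iff.1 hg
    have hco : (orderOf g).Coprime (orderOf x) := by
      rw [hx]; exact (S.hp.coprime_iff_not_dvd.2 h).symm
    have ho := hc.orderOf_mul_eq_mul_orderOf_of_coprime hco
    have h1 := S.iso (g * x) (by rw [ho, hx]; exact dvd_mul_left p _)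
    rw [ho, hx, Nat.mul_eq_right S.hp.ne_zero] at h1
    rw [orderOf_eq_one_iff.1 h1, one_pow]

theorem centralizer_eq [Fact p.Prime] {P : Sylow p G} {x : G} (hx : orderOf x = p)
    (h : ∀ u ∈ (P : Subgroup G), u * x = x * u) :
    centralizer ({x} : Set G) = (P : Subgroup G) :=
  P.3 (S.isPGroup_centralizer hx) fun u hu => mem_centralizer_singleton_iff.2 (h u hu)

/-- The centre of a Sylow subgroup, inside the group. -/
noncomputable def cen [Fact p.Prime] (_S : Iso G p q) (P : Sylow p G) : Subgroup G :=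
  (center (P : Subgroup G)).map (P : Subgroup G).subtype

theorem cen_comm [Fact p.Prime] {P : Sylow p G} {z u : G} (hz : z ∈ S.cen P)
    (hu : u ∈ (P : Subgroup G)) : u * z = z * u := by
  obtain ⟨w, hw, rfl⟩ := hz
  exact congrArg Subtype.val (mem_center_iff.1 hw ⟨u, hu⟩)

theorem cen_le [Fact p.Prime] (P : Sylow p G) : S.cen P ≤ P := map_subtype_le _

/-- A Sylow normaliser contains an involution. -/
theorem exists_inv [Fact p.Prime] (P : Sylow p G) :
    ∃ t ∈ normalizer ((P : Subgroup G) : Set G), orderOf t = 2 := by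
  classical
  haveI := Fintype.ofFinite G
  haveI := Fintype.ofFinite (Sylow p G)
  set N := normalizer ((P : Subgroup G) : Set G) with hN
  set K := (P : Subgroup G).subgroupOf N with hK
  have hKc : Nat.card K = q := by
    rw [hK, Nat.card_congr (subgroupOfEquivOfLe le_normalizer).toEquiv, S.card_sylow P]
  haveI : Nontrivial (P : Subgroup G) := Finite.one_lt_card_iff_nontrivial.1 (by
    rw [S.card_sylow P]; have := S.lt; omega)
  set Z := S.cen P with hZ
  have hZc : Nat.card Z = Nat.card (center (P : Subgroup G)) :=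
    card_map_of_injective (P : Subgroup G).subtype_injective
  obtain ⟨c, hc⟩ := IsPGroup.iff_card.1 (P.2.to_subgroup (center (P : Subgroup G)))
  have hZ1 : 1 < Nat.card Z := by
    rw [hZc]
    exact (one_lt_card_iff_ne_bot _).2 ((nontrivial_iff_ne_bot _).1 P.2.center_nontrivial)
  -- a complement of P in its normaliser
  haveI : K.Normal := Subgroup.normal_in_normalizer
  have hKidx : K.index = (q ^ 2 - 1) / Nat.card (Sylow p G) ∧
      Nat.card (Sylow p G) * K.index = q ^ 2 - 1 := by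
    have h1 := card_mul_index K
    have h2 := N.card_mul_index
    rw [← h1, hKc, show N.index = Nat.card (Sylow p G) from P.card_eq_index_normalizer.symm,
      S.card, mul_assoc] at h2
    have h3 := Nat.eq_of_mul_eq_mul_left (by have := S.lt; omega) h2
    rw [mul_comm] at h3
    exact ⟨by rw [← h3, Nat.mul_div_cancel_left _ Nat.card_pos], h3⟩
  have hco : Nat.Coprime (Nat.card K) K.index := by
    obtain ⟨f, -, hqf⟩ := id S.hq
    rw [hKc, hqf]
    refine Nat.Coprime.pow_left f (S.hp.coprime_iff_not_dvd.2 fun h => ?_)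
    exact coprime_sq_sub S.hp S.hq (h.trans (hKidx.2 ▸ dvd_mul_left _ _))
  obtain ⟨E, hE⟩ := exists_right_complement'_of_coprime hco
  have hEc : Nat.card E = K.index := hE.symm.index_eq_card.symm
  -- the centre meets only its own Sylow subgroup
  have hZP : ∀ (Q : Sylow p G) (z : G), z ∈ S.cen Q → z ≠ 1 →
      centralizer ({z} : Set G) = (Q : Subgroup G) := fun Q z hz hz1 =>
    S.centralizer_eq (S.orderOf_mem (S.cen_le Q hz) hz1) fun u hu => S.cen_comm hz hu
  have hsame : ∀ Q : Sylow p G, Nat.card (S.cen Q) = Nat.card Z := by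
    intro Q
    obtain ⟨g, hg⟩ := MulAction.exists_smul_eq G P Q
    have e : (P : Subgroup G) ≃* (Q : Subgroup G) := P.equiv Q
    rw [hZc, show Nat.card (S.cen Q) = Nat.card (center (Q : Subgroup G)) from
      card_map_of_injective (Q : Subgroup G).subtype_injective]
    exact (Nat.card_congr (Subgroup.centerCongr e).toEquiv).symm
  have hle : Nat.card Z - 1 ≤ K.index := by
    have h1 : Nat.card (Σ Q : Sylow p G, {z : S.cen Q // z ≠ 1}) ≤ cnt G p := by
      refine Nat.card_le_card_of_injective (fun w => ⟨w.2.1.1,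
        S.orderOf_mem (S.cen_le w.1 w.2.1.2) fun e => w.2.2 (Subtype.ext e)⟩) ?_
      rintro ⟨Q, ⟨z, hz⟩, hz1⟩ ⟨R, ⟨z', hz'⟩, hz1'⟩ h
      have e : z = z' := congrArg Subtype.val h
      subst e
      have hQR : Q = R := Sylow.ext ((hZP Q z hz fun e => hz1 (Subtype.ext e)).symm.trans
        (hZP R z hz' fun e => hz1 (Subtype.ext e)))
      subst hQR
      rfl
    rw [Nat.card_sigma, S.num, ← hKidx.2] at h1
    have h2 : ∀ Q : Sylow p G, Nat.card {z : S.cen Q // z ≠ 1} = Nat.card Z - 1 := fun Q => by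
      haveI := Fintype.ofFinite (S.cen Q)
      rw [← hsame Q, Nat.card_eq_fintype_card, Fintype.card_subtype_compl, Fintype.card_subtype_eq,
        ← Nat.card_eq_fintype_card]
    rw [Finset.sum_congr rfl (fun Q _ => h2 Q), Finset.sum_const, Finset.card_univ,
      ← Nat.card_eq_fintype_card, smul_eq_mul] at h1
    exact Nat.le_of_mul_le_mul_left h1 Nat.card_pos
  -- the complement acts freely on the centre
  have hnorm : ∀ g ∈ N, ∀ z ∈ Z, g * z * g⁻¹ ∈ Z := by
    intro g hg z hz
    obtain ⟨w, hw, rfl⟩ := hz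
    refine ⟨(P : Subgroup G).normalizerMonoidHom ⟨g, hg⟩ w, ?_, rfl⟩
    have := (inferInstance : (center (P : Subgroup G)).Characteristic).fixed
      ((P : Subgroup G).normalizerMonoidHom ⟨g, hg⟩)
    rw [← this] at hw
    exact hw
  letI : MulAction E {z : Z // z ≠ 1} :=
    { smul := fun g z => ⟨⟨(g : N).1 * z.1 * (g : N).1⁻¹, hnorm _ (g : N).2 _ z.1.2⟩, fun h => by
        refine z.2 (Subtype.ext ?_)
        have h' : (g : N).1 * z.1 * (g : N).1⁻¹ = 1 := congrArg Subtype.val h
        exact conj_eq_one_iff.1 h'⟩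
      one_smul := fun z => Subtype.ext (Subtype.ext (by
        show ((1 : E) : N).1 * z.1 * ((1 : E) : N).1⁻¹ = z.1
        simp))
      mul_smul := fun g h z => Subtype.ext (Subtype.ext (by
        show ((g * h : E) : N).1 * z.1 * ((g * h : E) : N).1⁻¹ =
          (g : N).1 * ((h : N).1 * z.1 * (h : N).1⁻¹) * (g : N).1⁻¹
        simp [mul_assoc])) }
  have hdvd : Nat.card E ∣ Nat.card {z : Z // z ≠ 1} := by
    refine Core.card_dvd_of_free fun z => ?_
    rw [eq_bot_iff]
    intro g hg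
    rw [MulAction.mem_stabilizer_iff] at hg
    have h' : (g : N).1 * z.1 * (g : N).1⁻¹ = z.1 := congrArg (fun w => w.1.1) hg
    have hz1 : (z.1 : G) ≠ 1 := fun e => z.2 (Subtype.ext e)
    have hgC : (g : N).1 ∈ centralizer ({(z.1 : G)} : Set G) :=
      mem_centralizer_singleton_iff.2 (mul_inv_eq_iff_eq_mul.1 h')
    rw [hZP P _ z.1.2 hz1] at hgC
    have hgK : (g : N) ∈ K ⊓ E := ⟨mem_subgroupOf.2 hgC, g.2⟩
    rw [hE.disjoint.eq_bot, mem_bot] at hgK
    rw [mem_bot]
    exact Subtype.ext hgK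
  haveI := Fintype.ofFinite Z
  rw [hEc, Nat.card_eq_fintype_card (α := {z : Z // z ≠ 1}), Fintype.card_subtype_compl,
    Fintype.card_subtype_eq, ← Nat.card_eq_fintype_card] at hdvd
  have heq : K.index = Nat.card Z - 1 := le_antisymm (Nat.le_of_dvd (by omega) hdvd) hle
  haveI : Fact (Nat.Prime 2) := ⟨Nat.prime_two⟩
  obtain ⟨t, ht⟩ := exists_prime_orderOf_dvd_card' (G := E) 2 (by
    rw [hEc, heq, hZc, hc]
    obtain ⟨k, hk⟩ := (S.hp.odd_of_ne_two S.hp2).pow (n := c)
    exact ⟨k, by omega⟩)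
  exact ⟨(t : N).1, (t : N).2, by rw [Subgroup.orderOf_coe, Subgroup.orderOf_coe, ht]⟩

theorem sylow_comm [Fact p.Prime] (P : Sylow p G) {x y : G} (hx : x ∈ (P : Subgroup G))
    (hy : y ∈ (P : Subgroup G)) : x * y = y * x := by
  obtain ⟨t, htN, ht⟩ := S.exists_inv P
  have ht2 : t * t = 1 := by rw [← pow_two, ← ht, pow_orderOf_eq_one]
  let σ : MulAut (P : Subgroup G) := (P : Subgroup G).normalizerMonoidHom ⟨t, htN⟩
  have hfp : MonoidHom.FixedPointFree (σ : ↥(P : Subgroup G) → ↥(P : Subgroup G)) := by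
    intro u hu
    by_contra hu1
    have hu1' : (u : G) ≠ 1 := fun e => hu1 (Subtype.ext e)
    have h' : t * u * t⁻¹ = (u : G) := congrArg Subtype.val hu
    obtain ⟨k, hk⟩ := IsPGroup.iff_orderOf.1 (S.isPGroup_centralizer (S.orderOf_mem u.2 hu1'))
      ⟨t, mem_centralizer_singleton_iff.2 (mul_inv_eq_iff_eq_mul.1 h')⟩
    rw [Subgroup.orderOf_mk, ht] at hk
    rcases Nat.eq_zero_or_pos k with h | h
    · rw [h, pow_zero] at hk; omega
    · exact S.hp2 (((Nat.prime_dvd_prime_iff_eq S.hp Nat.prime_two).1 (hk ▸ dvd_pow_self p h.ne')))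
  have hi : Function.Involutive (σ : ↥(P : Subgroup G) → ↥(P : Subgroup G)) := fun u => Subtype.ext (by
    show t * (t * u * t⁻¹) * t⁻¹ = (u : G)
    calc t * (t * (u : G) * t⁻¹) * t⁻¹ = (t * t) * u * (t * t)⁻¹ := by group
      _ = u := by rw [ht2]; group)
  have e := hfp.coe_eq_inv_of_involutive hi
  have key : ∀ u : (P : Subgroup G), σ u = u⁻¹ := fun u => congrFun e u
  have h := map_mul σ ⟨x, hx⟩ ⟨y, hy⟩
  rw [key, key, key, ← mul_inv_rev, inv_inj] at h
  exact congrArg Subtype.val h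

theorem eq_of_mem [Fact p.Prime] {P Q : Sylow p G} {x : G} (hP : x ∈ (P : Subgroup G))
    (hQ : x ∈ (Q : Subgroup G)) (hx : x ≠ 1) : P = Q :=
  Sylow.ext ((S.centralizer_eq (S.orderOf_mem hP hx) fun _ hu => S.sylow_comm P hu hP).symm.trans
    (S.centralizer_eq (S.orderOf_mem hP hx) fun _ hu => S.sylow_comm Q hu hQ))

theorem card_sylows [Fact p.Prime] : Nat.card (Sylow p G) = q + 1 := by
  classical
  haveI := Fintype.ofFinite (Sylow p G)
  let φ : (Σ P : Sylow p G, {u : (P : Subgroup G) // u ≠ 1}) → {g : G // orderOf g = p} := fun w =>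
    ⟨w.2.1.1, S.orderOf_mem w.2.1.2 fun e => w.2.2 (Subtype.ext e)⟩
  have hφ : Function.Bijective φ := by
    constructor
    · rintro ⟨P, ⟨u, hu⟩, hu1⟩ ⟨Q, ⟨v, hv⟩, hv1⟩ h
      have e : u = v := congrArg Subtype.val h
      subst e
      have hPQ := S.eq_of_mem hu hv fun e => hu1 (Subtype.ext e)
      subst hPQ
      rfl
    · rintro ⟨g, hg⟩
      have hz : IsPGroup p (zpowers g) :=
        IsPGroup.iff_card.2 ⟨1, by rw [Nat.card_zpowers, hg, pow_one]⟩
      obtain ⟨P, hP⟩ := hz.exists_le_sylow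
      exact ⟨⟨P, ⟨g, hP (mem_zpowers g)⟩, fun e => S.hp.ne_one (by
        rw [← hg, show g = 1 from congrArg Subtype.val e, orderOf_one])⟩, rfl⟩
  have hs : ∀ P : Sylow p G, Nat.card {u : (P : Subgroup G) // u ≠ 1} = q - 1 := fun P => by
    haveI := Fintype.ofFinite (P : Subgroup G)
    rw [Nat.card_eq_fintype_card, Fintype.card_subtype_compl, Fintype.card_subtype_eq,
      ← Nat.card_eq_fintype_card, S.card_sylow P]
  have h := Nat.card_eq_of_bijective φ hφ
  rw [Nat.card_sigma, Finset.sum_congr rfl fun P _ => hs P, Finset.sum_const, Finset.card_univ,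
    ← Nat.card_eq_fintype_card, smul_eq_mul, ← cnt, S.num,
    show q ^ 2 - 1 = (q + 1) * (q - 1) by simpa using Nat.sq_sub_sq q 1] at h
  exact Nat.eq_of_mul_eq_mul_right (by have := S.lt; omega) h

theorem sharp [Fact p.Prime] : Sharp G (Sylow p G) q := by
  classical
  haveI := Fintype.ofFinite (Sylow p G)
  have hfree : ∀ {P Q : Sylow p G}, Q ≠ P → ∀ u ∈ (P : Subgroup G), u • Q = Q → u = 1 := by
    intro P Q hne u hu h
    by_contra hu1
    have h1 : u ∈ (P : Subgroup G) ⊓ normalizer (Q : Set G) :=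
      ⟨hu, Sylow.smul_eq_iff_mem_normalizer.1 h⟩
    rw [P.2.inf_normalizer_sylow Q] at h1
    exact hne (S.eq_of_mem h1.2 hu hu1)
  refine ⟨?_, odd_of_pow S.hp S.hp2 S.hq, S.lt, S.card_sylows, S.card⟩
  intro g A B C hAB hBC hAC gA gB gC
  have hfixA : ∀ u : (A : Subgroup G), (u : G) • A = A := fun u =>
    Sylow.smul_eq_iff_mem_normalizer.2 (le_normalizer u.2)
  let φ : ↥(A : Subgroup G) → {R : Sylow p G // R ≠ A} := fun u =>
    ⟨(u : G) • B, fun e => hAB (MulAction.injective (u : G) (e.trans (hfixA u).symm)).symm⟩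
  have hφi : Function.Injective φ := by
    intro u v h
    have e : (u : G) • B = (v : G) • B := congrArg Subtype.val h
    exact Subtype.ext (eq_of_inv_mul_eq_one (hfree (Ne.symm hAB) _ (mul_mem (inv_mem v.2) u.2)
      (by rw [mul_smul, e, inv_smul_smul]))).symm
  have hc : Nat.card {R : Sylow p G // R ≠ A} ≤ Nat.card (A : Subgroup G) := by
    rw [S.card_sylow A, Nat.card_eq_fintype_card, Fintype.card_subtype_compl,
      Fintype.card_subtype_eq, ← Nat.card_eq_fintype_card, S.card_sylows]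
    omega
  obtain ⟨u, hu⟩ := (hφi.bijective_of_nat_card_le hc).2 ⟨C, Ne.symm hAC⟩
  have hu' : (u : G) • B = C := congrArg Subtype.val hu
  have hu1 : (u : G) ≠ 1 := fun e => hBC (by rw [← hu', e, one_smul])
  have hconj : g * u * g⁻¹ ∈ (A : Subgroup G) :=
    (mem_normalizer_iff.1 (Sylow.smul_eq_iff_mem_normalizer.1 gA) _).1 u.2
  have heq : g * u * g⁻¹ = u := congrArg Subtype.val (hφi (a₁ := ⟨_, hconj⟩) (a₂ := u) (Subtype.ext (by
    show (g * u * g⁻¹) • B = (u : G) • B
    rw [mul_smul, mul_smul, inv_smul_eq_iff.2 gB.symm, hu', gC])))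
  have hgA : g ∈ centralizer ({(u : G)} : Set G) :=
    mem_centralizer_singleton_iff.2 (mul_inv_eq_iff_eq_mul.1 heq)
  rw [S.centralizer_eq (S.orderOf_mem u.2 hu1) fun _ hv => S.sylow_comm A hv u.2] at hgA
  exact hfree (Ne.symm hAB) g hgA gB

end Iso

end Cfsg.Agent.NsePGL
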