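import Cfsg.Agent.NsePGL.Group
import Cfsg.Agent.Fg24.IsoPGL.Spectrum
import Cfsg.Agent.Classical.ProjLine
import Cfsg.Agent.Classical.Dickson2.Tools

/-!
PGL(2, q) satisfies the hypotheses, and they identify it.
-/

set_option autoImplicit false
set_option linter.style.haveILetI false

namespace Cfsg.Agent.NsePGL

open Subgroup MulAction Zassenhaus
open scoped LinearAlgebra.Projectivization

section Model

variable {F : Type*} [Field F] [Fintype F]

local notation "PGLF" => Matrix.ProjGenLinGroup (Fin 2) F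

theorem model_sharp (hodd : Odd (Fintype.card F)) (h3 : 3 < Fintype.card F) :
    Sharp PGLF (ℙ F (Fin 2 → F)) (Fintype.card F) := by
  refine ⟨fun g x y z hxy hyz hxz => (Classical.pgl_sharply_three (F := F)).2 g x y z hxy hxz hyz,
    hodd, h3, ?_, Classical.Dickson2.card_pgl_two F⟩
  rw [Projectivization.card_of_finrank_two F (Fin 2 → F) (Module.finrank_fin_fun F),
    Nat.card_eq_fintype_card]

omit [Fintype F] in
/-- An element exchanging two points of the line is an involution. -/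
theorem model_swap (g : PGLF) (a b : ℙ F (Fin 2 → F)) (hab : a ≠ b) (hga : g • a = b)
    (hgb : g • b = a) : g * g = 1 := by
  induction g using Matrix.ProjGenLinGroup.induction_on with | mk g => ?_
  induction a using Projectivization.ind with | h u hu => ?_
  induction b using Projectivization.ind with | h v hv => ?_
  change g • Projectivization.mk F u hu = _ at hga
  change g • Projectivization.mk F v hv = _ at hgb
  rw [Projectivization.smul_mk, Projectivization.mk_eq_mk_iff'] at hga hgb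
  obtain ⟨l, hl⟩ := hga
  obtain ⟨m, hm⟩ := hgb
  have hw : u + v ≠ 0 := fun e => hab ((Projectivization.mk_eq_mk_iff' F u v hu hv).2
    ⟨-1, by rw [neg_one_smul, neg_eq_iff_add_eq_zero, add_comm]; exact e⟩)
  have h1 : Projectivization.mk F u hu ≠ Projectivization.mk F (u + v) hw := fun e => by
    obtain ⟨c, hc⟩ := (Projectivization.mk_eq_mk_iff' F u (u + v) hu hw).1 e
    by_cases hc0 : c = 0
    · rw [hc0, zero_smul] at hc; exact hu hc.symm
    · apply hab
      refine ((Projectivization.mk_eq_mk_iff' F v u hv hu).2 ⟨c⁻¹ - 1, ?_⟩).symm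
      rw [sub_smul, one_smul]
      nth_rewrite 1 [← hc]
      rw [smul_smul, inv_mul_cancel₀ hc0, one_smul, add_sub_cancel_left]
  have h2 : Projectivization.mk F v hv ≠ Projectivization.mk F (u + v) hw := fun e => by
    obtain ⟨c, hc⟩ := (Projectivization.mk_eq_mk_iff' F v (u + v) hv hw).1 e
    by_cases hc0 : c = 0
    · rw [hc0, zero_smul] at hc; exact hv hc.symm
    · apply hab
      refine (Projectivization.mk_eq_mk_iff' F u v hu hv).2 ⟨c⁻¹ - 1, ?_⟩
      rw [sub_smul, one_smul]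
      nth_rewrite 1 [← hc]
      rw [smul_smul, inv_mul_cancel₀ hc0, one_smul, add_sub_cancel_right]
  have hgu : (g * g) • u = (l * m) • u := by
    rw [mul_smul, ← hl, smul_comm g l v, ← hm, smul_smul]
  have hgv : (g * g) • v = (l * m) • v := by
    rw [mul_smul, ← hm, smul_comm g m u, ← hl, smul_smul, mul_comm]
  have hfix : ∀ (w : Fin 2 → F) (hw : w ≠ 0), (g * g) • w = (l * m) • w →
      (Matrix.ProjGenLinGroup.mk g * Matrix.ProjGenLinGroup.mk g) • Projectivization.mk F w hw =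
        Projectivization.mk F w hw := by
    intro w hw e
    rw [← map_mul]
    change (g * g) • Projectivization.mk F w hw = _
    rw [Projectivization.smul_mk, Projectivization.mk_eq_mk_iff']
    exact ⟨l * m, e.symm⟩
  exact (Classical.pgl_sharply_three (F := F)).2 _ _ _ _ hab h1 h2 (hfix u hu hgu) (hfix v hv hgv)
    (hfix (u + v) hw (by rw [smul_add, smul_add, hgu, hgv]))

theorem model_iso (p : ℕ) [Fact p.Prime] [CharP F p] (hp2 : p ≠ 2) (g : PGLF)
    (hg : p ∣ orderOf g) : orderOf g = p := by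
  have hp := (Fact.out : p.Prime)
  obtain ⟨n, -, hn⟩ := FiniteField.card F p
  have h2F : (2 : F) ≠ 0 := fun e => hp2 ((Nat.prime_dvd_prime_iff_eq hp Nat.prime_two).1
    ((CharP.cast_eq_zero_iff F p 2).1 (by exact_mod_cast e)))
  have hpq : p ∣ Fintype.card F := hn ▸ dvd_pow_self p n.2.ne'
  rcases Fg24.IsoPGL.order_cases p h2F g with h | h | h
  · have h' := Nat.dvd_sub hpq (hg.trans h)
    rw [show Fintype.card F - (Fintype.card F - 1) = 1 by
      have := Fintype.card_pos (α := F); omega, Nat.dvd_one] at h'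
    exact absurd h' hp.ne_one
  · exact absurd (Nat.dvd_one.1 ((Nat.dvd_add_right hpq).1 (hg.trans h))) hp.ne_one
  · exact h

end Model

/-- Outside orders 1 and p the numbers are multiples of q. -/
theorem dvd_cnt {G Ω : Type*} [Group G] [MulAction G Ω] [Finite G] [Finite Ω] {p q f : ℕ}
    (hp : p.Prime) (hqf : q = p ^ f) (S : Sharp G Ω q) (hiso : ∀ g : G, p ∣ orderOf g → orderOf g = p)
    (g : G) (h1 : orderOf g ≠ 1) (hgp : orderOf g ≠ p) : q ∣ cnt G (orderOf g) := by
  obtain ⟨a⟩ : Nonempty Ω := Finite.card_pos_iff.1 (by rw [S.deg]; omega)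
  obtain ⟨b, hb, -⟩ := exists_third S.h3 a a
  obtain ⟨K, hK⟩ := S.exists_kernel (Ne.symm hb)
  have hKc := S.card_kernel (Ne.symm hb) hK
  set n := orderOf g
  letI : MulAction K {x : G // orderOf x = n} :=
    { smul := fun u x => ⟨(u : G) * x.1 * (u : G)⁻¹,
        (orderOf_injective (MulAut.conj (u : G)).toMonoidHom (MulAut.conj (u : G)).injective x.1).trans x.2⟩
      one_smul := fun x => Subtype.ext (by
        show ((1 : K) : G) * x.1 * ((1 : K) : G)⁻¹ = x.1
        simp)
      mul_smul := fun u v x => Subtype.ext (by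
        show ((u * v : K) : G) * x.1 * ((u * v : K) : G)⁻¹ =
          (u : G) * ((v : G) * x.1 * (v : G)⁻¹) * (u : G)⁻¹
        simp [mul_assoc]) }
  rw [cnt, ← hKc]
  refine Core.card_dvd_of_free fun x => ?_
  rw [eq_bot_iff]
  intro u hu
  rw [mem_bot]
  by_contra hu1
  have e : (u : G) * x.1 * (u : G)⁻¹ = x.1 := congrArg Subtype.val hu
  have hc : Commute (u : G) x.1 := mul_inv_eq_iff_eq_mul.1 e
  obtain ⟨j, -, hj⟩ := (Nat.dvd_prime_pow hp).1
    (hqf ▸ hKc ▸ Subgroup.orderOf_dvd_natCard K u.2)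
  have hu' : orderOf (u : G) = p := hiso _ (hj ▸ dvd_pow_self p fun h =>
    hu1 (Subtype.ext (orderOf_eq_one_iff.1 (by rw [hj, h, pow_zero]))))
  have hpn : ¬ p ∣ n := fun h => hgp (hiso g h)
  have ho := hc.orderOf_mul_eq_mul_orderOf_of_coprime
    (by rw [hu', x.2]; exact hp.coprime_iff_not_dvd.2 hpn)
  have h := hiso ((u : G) * x.1) (by rw [ho, hu']; exact dvd_mul_right p _)
  rw [ho, hu', x.2, Nat.mul_eq_left hp.ne_zero] at h
  exact h1 h

/-- The identification of a sharply triply transitive group with q² involutions. -/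
theorem identify {G Ω : Type*} [Group G] [MulAction G Ω] [Finite G] [Finite Ω] {p q f : ℕ}
    (hp : p.Prime) (hp2 : p ≠ 2) (hqf : q = p ^ f) (S : Sharp G Ω q) (h2 : cnt G 2 = q ^ 2) :
    ∃ (K : Type) (_ : Field K) (_ : Fintype K), Fintype.card K = q ∧
      Nonempty (G ≃* Matrix.ProjGenLinGroup (Fin 2) K) := by
  classical
  haveI := Fact.mk hp
  have C := S.zctx
  obtain ⟨a⟩ : Nonempty Ω := Finite.card_pos_iff.1 (by rw [S.deg]; omega)
  obtain ⟨b, hb, -⟩ := exists_third S.h3 a a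
  have hab := Ne.symm hb
  obtain ⟨P, hF⟩ := S.exists_kernel hab
  have hFc := S.card_kernel hab hF
  obtain ⟨hcomm, r, hr, hrg, hexp⟩ := hF.elementary C hab S.h3 (by
    rw [S.card_two hab, S.deg]; omega)
  haveI := Fact.mk hr
  haveI : Nontrivial P := Finite.one_lt_card_iff_nontrivial.1 (by rw [hFc]; have := S.lt; omega)
  letI : CommGroup P := { (inferInstance : Group P) with mul_comm := hcomm.is_comm.comm }
  obtain ⟨K, _, _, e, μ, hK, -, hμ, -, hμs⟩ := exists_field_model_transitive hrg hF.act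
    (hF.act_fpf C hab) (fun h k => S.twoPt_comm h2 hab h k) (fun u w hu hw => by
      have hub : (u : G) • b ≠ b := fun e =>
        hu (Subtype.ext (hF.eq_one_of_fix u.2 hb e))
      have hwb : (w : G) • b ≠ b := fun e =>
        hw (Subtype.ext (hF.eq_one_of_fix w.2 hb e))
      obtain ⟨g, g1, g2, g3⟩ := S.map3 hab (Ne.symm (hF.smul_ne u.2 hb)) (Ne.symm hub) hab
        (Ne.symm (hF.smul_ne w.2 hb)) (Ne.symm hwb)
      refine ⟨⟨g, g1, g2⟩, Subtype.ext (hF.eq_of_smul (hF.act ⟨g, g1, g2⟩ u).2 w.2 hb ?_)⟩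
      rw [hF.act_smul]; exact g3)
  have hK' : Fintype.card K = q := hK.trans hFc
  refine ⟨K, inferInstance, inferInstance, hK', C.identify_pgl_field S.h3 hab hF e μ hμ hμs ?_⟩
  intro h1
  have h2' : (2 : K) = 0 := by linear_combination -h1
  have h4 := FiniteField.cast_card_eq_zero K
  obtain ⟨j, hj⟩ := S.odd
  rw [hK', hj] at h4
  push_cast at h4
  rw [h2', zero_mul, zero_add] at h4
  exact one_ne_zero h4

theorem pgl_congr {K L : Type*} [Field K] [Field L] (e : K ≃+* L) :
    Nonempty (Matrix.ProjGenLinGroup (Fin 2) K ≃* Matrix.ProjGenLinGroup (Fin 2) L) := by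
  let ε : GL (Fin 2) K ≃* GL (Fin 2) L := Units.mapEquiv e.mapMatrix.toMulEquiv
  refine ⟨QuotientGroup.congr _ _ ε ?_⟩
  ext x
  simp only [Subgroup.mem_map, Subgroup.mem_center_iff]
  constructor
  · rintro ⟨y, hy, rfl⟩ g
    obtain ⟨g', rfl⟩ := ε.surjective g
    show ε g' * ε y = ε y * ε g'
    rw [← map_mul, hy, map_mul]
  · intro h
    obtain ⟨y, rfl⟩ := ε.surjective x
    refine ⟨y, fun g => ε.injective ?_, rfl⟩
    rw [map_mul, map_mul]
    exact h (ε g)

/-- The theorem. -/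
theorem recog {F : Type*} [Field F] [Fintype F] (hodd : Odd (Fintype.card F)) (h3 : 3 < Fintype.card F)
    {G : Type*} [Group G] [Finite G]
    (hcard : Nat.card G = Nat.card (Matrix.ProjGenLinGroup (Fin 2) F))
    (hnse : {c : ℕ | 0 < c ∧ ∃ n : ℕ, c = cnt G n} =
      {c : ℕ | 0 < c ∧ ∃ n : ℕ, c = cnt (Matrix.ProjGenLinGroup (Fin 2) F) n}) :
    Nonempty (G ≃* Matrix.ProjGenLinGroup (Fin 2) F) := by
  classical
  set q := Fintype.card F with hq
  obtain ⟨p, hpc⟩ := CharP.exists F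
  haveI : Fact p.Prime := ⟨CharP.char_is_prime F p⟩
  have hp := (Fact.out : p.Prime)
  obtain ⟨f, -, hqf⟩ := FiniteField.card F p
  have hp2 : p ≠ 2 := fun e => by
    subst e
    rw [show q = 2 ^ (f : ℕ) from hqf] at hodd
    exact absurd hodd (Nat.not_odd_iff_even.2 (Nat.even_pow.2 ⟨even_two, f.2.ne'⟩))
  haveI : Finite (Matrix.ProjGenLinGroup (Fin 2) F) :=
    Finite.of_surjective _ Matrix.ProjGenLinGroup.mk_surjective
  have M := model_sharp (F := F) hodd h3
  have Miso := model_iso (F := F) p hp2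
  have hM2 := M.cnt_two_of_swap fun g a b => model_swap g a b
  have hMp := M.cnt_p hp hqf hp2 Miso
  have hval : ∀ g : G, cnt G (orderOf g) = 1 ∨ cnt G (orderOf g) = q ^ 2 - 1 ∨
      q ∣ cnt G (orderOf g) := by
    intro g
    have h : cnt G (orderOf g) ∈ {c : ℕ | 0 < c ∧ ∃ n : ℕ, c = cnt G n} := ⟨cnt_pos g, _, rfl⟩
    rw [hnse] at h
    obtain ⟨hpos, n, hn⟩ := h
    rw [hn] at hpos ⊢
    obtain ⟨⟨x, hx⟩⟩ := (Nat.card_pos_iff.1 hpos).1
    subst hx
    by_cases h1 : orderOf x = 1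
    · exact Or.inl (by rw [h1]; exact cnt_one)
    by_cases h2 : orderOf x = p
    · exact Or.inr (Or.inl (by rw [h2]; exact hMp))
    exact Or.inr (Or.inr (dvd_cnt hp hqf M Miso x h1 h2))
  have hsq : ∃ n, cnt G n = q ^ 2 := by
    have h : q ^ 2 ∈ {c : ℕ | 0 < c ∧ ∃ n : ℕ, c = cnt (Matrix.ProjGenLinGroup (Fin 2) F) n} :=
      ⟨pow_pos (by omega) 2, 2, hM2.symm⟩
    rw [← hnse] at h
    obtain ⟨-, n, hn⟩ := h
    exact ⟨n, hn.symm⟩
  obtain ⟨I, h2⟩ := iso_of_nse hp hp2 ⟨f, f.2, hqf⟩ h3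
    (hcard.trans (Classical.Dickson2.card_pgl_two F)) hval hsq
  obtain ⟨K, _, _, hK, ⟨φ⟩⟩ := identify hp hp2 hqf I.sharp h2
  obtain ⟨ψ⟩ := pgl_congr (FiniteField.ringEquivOfCardEq (hK.trans hq))
  exact ⟨φ.trans ψ⟩

end Cfsg.Agent.NsePGL
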