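import Cfsg.Agent.Zassenhaus.EvenSharp
import Cfsg.Agent.Zassenhaus.Swap
import Cfsg.Agent.Zassenhaus.FieldPGL
import Cfsg.Agent.Core.FrobeniusGroup

/-!
Sharply triply transitive groups of degree q + 1, q odd: the number of involutions is q² exactly
when every element exchanging two points is an involution.
-/

set_option autoImplicit false
set_option linter.style.haveILetI false

namespace Cfsg.Agent.NsePGL

open Subgroup MulAction Zassenhaus

/-- The number of elements of a given order. -/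
noncomputable def cnt (G : Type*) [Group G] (n : ℕ) : ℕ := Nat.card {g : G // orderOf g = n}

variable {G Ω : Type*} [Group G] [MulAction G Ω]

variable (G Ω) in
/-- Order q(q² - 1), degree q + 1, and only the identity fixes three points. -/
structure Sharp (q : ℕ) : Prop where
  three : ∀ (g : G) (x y z : Ω), x ≠ y → y ≠ z → x ≠ z → g • x = x → g • y = y → g • z = z → g = 1
  odd : Odd q
  lt : 3 < q
  deg : Nat.card Ω = q + 1
  card : Nat.card G = q * (q ^ 2 - 1)

namespace Sharp

variable {q : ℕ} [Finite G] [Finite Ω] (S : Sharp G Ω q)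
include S

theorem h3 : 3 ≤ Nat.card Ω := by rw [S.deg]; have := S.lt; omega

theorem map3 : ∀ {x y z x' y' z' : Ω}, x ≠ y → x ≠ z → y ≠ z → x' ≠ y' → x' ≠ z' → y' ≠ z' →
    ∃ g : G, g • x = x' ∧ g • y = y' ∧ g • z = z' := by
  classical
  haveI := Fintype.ofFinite Ω
  intro x y z x' y' z' hxy hxz hyz hxy' hxz' hyz'
  let T := {w : Fin 3 → Ω // Function.Injective w}
  have hinj : ∀ {a b c : Ω}, a ≠ b → a ≠ c → b ≠ c → Function.Injective ![a, b, c] := by
    intro a b c hab hac hbc i j h
    fin_cases i <;> fin_cases j <;> simp_all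
  let φ : G → T := fun g => ⟨fun i => g • ![x, y, z] i,
    fun i j h => hinj hxy hxz hyz (MulAction.injective g h)⟩
  have hφ : Function.Injective φ := by
    intro g g' h
    have e : ∀ i, g • ![x, y, z] i = g' • ![x, y, z] i := fun i =>
      congrFun (congrArg Subtype.val h) i
    refine eq_of_inv_mul_eq_one (S.three (g'⁻¹ * g) x y z hxy hyz hxz ?_ ?_ ?_) |>.symm
    · rw [mul_smul, show g • x = g' • x from e 0, inv_smul_smul]
    · rw [mul_smul, show g • y = g' • y from e 1, inv_smul_smul]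
    · rw [mul_smul, show g • z = g' • z from e 2, inv_smul_smul]
  have hT : Nat.card T = Nat.card G := by
    rw [Nat.card_congr (Equiv.subtypeInjectiveEquivEmbedding (Fin 3) Ω), Nat.card_eq_fintype_card,
      Fintype.card_embedding_eq, Fintype.card_fin, ← Nat.card_eq_fintype_card, S.deg, S.card]
    have := S.lt
    rw [show (q + 1).descFactorial 3 = (q - 1) * (q * (q + 1)) by
      simp only [Nat.descFactorial_succ, Nat.descFactorial_zero, Nat.sub_zero, mul_one,
        show q + 1 - 2 = q - 1 by omega, show q + 1 - 1 = q by omega]]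
    rw [show q ^ 2 - 1 = (q + 1) * (q - 1) by simpa using Nat.sq_sub_sq q 1]
    ring
  obtain ⟨g, hg⟩ := (hφ.bijective_of_nat_card_le hT.le).2 ⟨![x', y', z'], hinj hxy' hxz' hyz'⟩
  have e : ∀ i, g • ![x, y, z] i = ![x', y', z'] i := fun i => congrFun (congrArg Subtype.val hg) i
  exact ⟨g, e 0, e 1, e 2⟩

theorem zctx : ZCtx G Ω := by
  refine ⟨fun {x y u v} hxy huv => ?_, S.three⟩
  obtain ⟨z, hzx, hzy⟩ := exists_third S.h3 x y
  obtain ⟨w, hwu, hwv⟩ := exists_third S.h3 u v
  obtain ⟨g, h1, h2, -⟩ := S.map3 hxy (Ne.symm hzx) (Ne.symm hzy) huv (Ne.symm hwu) (Ne.symm hwv)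
  exact ⟨g, h1, h2⟩

theorem card_two {a b : Ω} (hab : a ≠ b) : Nat.card (twoPt G a b) = q - 1 := by
  classical
  haveI := Fintype.ofFinite Ω
  obtain ⟨c, hca, hcb⟩ := exists_third S.h3 a b
  have C := S.zctx
  refine (Nat.card_congr (Equiv.ofBijective
    (fun h : twoPt G a b => (⟨(h : G) • c, ?_⟩ : {x : Ω // x ∈ ({a, b} : Finset Ω)ᶜ}))
    ⟨?_, ?_⟩)).trans ?_
  · simp only [Finset.mem_compl, Finset.mem_insert, Finset.mem_singleton, not_or]
    exact ⟨fun e => hca (MulAction.injective (h : G) (e.trans h.2.1.symm)),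
      fun e => hcb (MulAction.injective (h : G) (e.trans h.2.2.symm))⟩
  · intro h k e
    have e' : (h : G) • c = (k : G) • c := congrArg Subtype.val e
    exact Subtype.ext (eq_of_inv_mul_eq_one (C.eq_one hab (mul_mem (inv_mem k.2) h.2) hca hcb
      (by rw [mul_smul, e', inv_smul_smul]))).symm
  · intro y
    have hy := y.2
    simp only [Finset.mem_compl, Finset.mem_insert, Finset.mem_singleton, not_or] at hy
    obtain ⟨g, g1, g2, g3⟩ := S.map3 hab (Ne.symm hca) (Ne.symm hcb) hab (Ne.symm hy.1) (Ne.symm hy.2)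
    exact ⟨⟨g, g1, g2⟩, Subtype.ext g3⟩
  · rw [Nat.card_eq_finsetCard, Finset.card_compl, Finset.card_pair hab,
      ← Nat.card_eq_fintype_card, S.deg]
    omega

theorem exists_kernel {a b : Ω} (hab : a ≠ b) : ∃ F : Subgroup G, IsKernel F a := by
  refine S.zctx.exists_kernel S.h3 hab fun e => ?_
  have := S.card_two hab
  rw [e, card_bot] at this
  have := S.lt
  omega

theorem card_kernel {a b : Ω} (hab : a ≠ b) {F : Subgroup G} (hF : IsKernel F a) :
    Nat.card F = q := by
  have := hF.card_eq hab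
  rw [S.deg] at this
  omega

theorem even_two {a b : Ω} (hab : a ≠ b) : 2 ∣ Nat.card (twoPt G a b) := by
  rw [S.card_two hab]
  obtain ⟨k, hk⟩ := S.odd
  exact ⟨k, by omega⟩

/-- Exactly one involution fixes two given points. -/
theorem existsUnique_inv {a b : Ω} (hab : a ≠ b) :
    ∃! t : {g : G // orderOf g = 2}, t.1 • a = a ∧ t.1 • b = b := by
  haveI : Fact (Nat.Prime 2) := ⟨Nat.prime_two⟩
  obtain ⟨F, hF⟩ := S.exists_kernel hab
  obtain ⟨t, ht⟩ := exists_prime_orderOf_dvd_card' 2 (S.even_two hab)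
  have ht' : orderOf (t : G) = 2 := by rw [Subgroup.orderOf_coe, ht]
  refine ⟨⟨t, ht'⟩, t.2, ?_⟩
  rintro ⟨u, hu⟩ hfix
  have key : ∀ h : twoPt G a b, orderOf h = 2 → ∀ x : F, hF.act h x = x⁻¹ := by
    intro h hh
    have hh1 : h ≠ 1 := fun e => by rw [e, orderOf_one] at hh; omega
    have hfp : MonoidHom.FixedPointFree (hF.act h : F → F) := hF.act_fpf S.zctx hab h hh1
    have hi : Function.Involutive (hF.act h : F → F) := fun x => by
      rw [← MulAut.mul_apply, ← map_mul, ← pow_two, ← hh, pow_orderOf_eq_one, map_one]; rfl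
    exact fun x => congrFun (hfp.coe_eq_inv_of_involutive hi) x
  have hu' : orderOf (⟨u, hfix⟩ : twoPt G a b) = 2 := by rw [← Subgroup.orderOf_coe]; exact hu
  have heq : hF.act ((t : twoPt G a b)⁻¹ * ⟨u, hfix⟩) = 1 := by
    rw [map_mul, map_inv, inv_mul_eq_one]
    exact MulEquiv.ext fun x => by rw [key t ht, key _ hu']
  by_contra hne
  obtain ⟨x, hx, hx1⟩ := F.bot_or_exists_ne_one.resolve_left fun e => by
    have := S.card_kernel hab hF
    rw [e, card_bot] at this
    have := S.lt
    omega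
  refine hx1 (congrArg Subtype.val (hF.act_fpf S.zctx hab _ (fun e => hne ?_) ⟨x, hx⟩
    (by rw [heq]; rfl)))
  exact Subtype.ext (congrArg Subtype.val (inv_mul_eq_one.1 e)).symm

/-- An involution with a fixed point has exactly one more. -/
theorem existsUnique_fix {t : G} (ht : orderOf t = 2) {a : Ω} (hta : t • a = a) :
    ∃! b : {b : Ω // b ≠ a}, t • b.1 = b.1 := by
  classical
  haveI := Fintype.ofFinite Ω
  haveI : Fact (Nat.Prime 2) := ⟨Nat.prime_two⟩
  have ht1 : t ≠ 1 := fun e => by rw [e, orderOf_one] at ht; omega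
  let σ : Equiv.Perm {b : Ω // b ≠ a} :=
    (MulAction.toPerm t).subtypePerm fun b => by
      rw [MulAction.toPerm_apply]
      exact ⟨fun h e => h (by rw [e, hta]), fun h e => h (MulAction.injective t (e.trans hta.symm))⟩
  have hσ : σ ^ 2 ^ 1 = 1 := Equiv.ext fun b => Subtype.ext (by
    show t • t • b.1 = b.1
    rw [← mul_smul, ← pow_two, ← ht, pow_orderOf_eq_one, one_smul])
  have hodd : ¬ 2 ∣ Fintype.card {b : Ω // b ≠ a} := by
    rw [Fintype.card_subtype_compl, Fintype.card_subtype_eq, ← Nat.card_eq_fintype_card, S.deg]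
    obtain ⟨k, hk⟩ := S.odd
    omega
  obtain ⟨b, hb⟩ := Equiv.Perm.exists_fixed_point_of_prime hodd hσ
  have hb' : t • b.1 = b.1 := congrArg Subtype.val hb
  refine ⟨b, hb', fun c hc => ?_⟩
  by_contra hne
  exact ht1 (S.three t a b.1 c.1 (Ne.symm b.2) (fun e => hne (Subtype.ext e.symm)) (Ne.symm c.2)
    hta hb' hc)

theorem card_inv_fix (a : Ω) : Nat.card {t : {g : G // orderOf g = 2} // t.1 • a = a} = q := by
  classical
  haveI := Fintype.ofFinite Ω
  have hc : Nat.card {b : Ω // b ≠ a} = q := by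
    rw [Nat.card_eq_fintype_card, Fintype.card_subtype_compl, Fintype.card_subtype_eq,
      ← Nat.card_eq_fintype_card, S.deg]
    omega
  conv_rhs => rw [← hc]
  refine Nat.card_congr (Equiv.ofBijective
    (fun t => (S.existsUnique_fix t.1.2 t.2).exists.choose) ⟨fun t u h => ?_, fun b => ?_⟩)
  · have h1 := (S.existsUnique_fix t.1.2 t.2).exists.choose_spec
    have h2 := (S.existsUnique_fix u.1.2 u.2).exists.choose_spec
    simp only at h
    rw [← h] at h2
    exact Subtype.ext ((S.existsUnique_inv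
      (Ne.symm (S.existsUnique_fix t.1.2 t.2).exists.choose.2)).unique ⟨t.2, h1⟩ ⟨u.2, h2⟩)
  · obtain ⟨t, ⟨hta, htb⟩, -⟩ := S.existsUnique_inv (Ne.symm b.2)
    exact ⟨⟨t, hta⟩, (S.existsUnique_fix t.2 hta).unique
      (S.existsUnique_fix t.2 hta).exists.choose_spec htb⟩

/-- The involutions, sorted by the image of a point. -/
theorem cnt_two_eq (a : Ω) [Fintype {b : Ω // b ≠ a}] :
    cnt G 2 = q + ∑ b : {b : Ω // b ≠ a}, Nat.card {t : {g : G // orderOf g = 2} // t.1 • a = b.1} := by
  classical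
  have h1 : Nat.card {t : {g : G // orderOf g = 2} // ¬ t.1 • a = a} =
      ∑ b : {b : Ω // b ≠ a}, Nat.card {t : {g : G // orderOf g = 2} // t.1 • a = b.1} := by
    rw [← Nat.card_sigma]
    exact Nat.card_congr
      { toFun := fun t => ⟨⟨t.1.1 • a, t.2⟩, ⟨t.1, rfl⟩⟩
        invFun := fun z => ⟨z.2.1, fun e => z.1.2 (z.2.2.symm.trans e)⟩
        left_inv := fun t => rfl
        right_inv := by rintro ⟨⟨b, hb⟩, ⟨t, ht⟩⟩; simp only at ht; subst ht; rfl }
  rw [cnt, ← Nat.card_congr (Equiv.sumCompl fun t : {g : G // orderOf g = 2} => t.1 • a = a),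
    Nat.card_sum, S.card_inv_fix a, h1]

theorem card_swappers {a b : Ω} (hab : a ≠ b) :
    Nat.card {g : G // g • a = b ∧ g • b = a} = q - 1 := by
  obtain ⟨s, hsa, hsb⟩ := S.zctx.two hab (Ne.symm hab)
  rw [← S.card_two hab]
  refine Nat.card_congr
    { toFun := fun g => ⟨s⁻¹ * g.1, ?_, ?_⟩
      invFun := fun h => ⟨s * h.1, ?_, ?_⟩
      left_inv := fun g => Subtype.ext (mul_inv_cancel_left s g.1)
      right_inv := fun h => Subtype.ext (inv_mul_cancel_left s h.1) }
  · show (s⁻¹ * g.1) • a = a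
    rw [mul_smul, g.2.1, inv_smul_eq_iff, hsa]
  · show (s⁻¹ * g.1) • b = b
    rw [mul_smul, g.2.2, inv_smul_eq_iff, hsb]
  · rw [mul_smul, show (h : G) • a = a from h.2.1, hsa]
  · rw [mul_smul, show (h : G) • b = b from h.2.2, hsb]

omit S in
/-- Involutions exchanging two points sit among all the exchanging elements. -/
noncomputable def invToSwap {a b : Ω} :
    {t : {g : G // orderOf g = 2} // t.1 • a = b} → {g : G // g • a = b ∧ g • b = a} :=
  fun t => ⟨t.1.1, t.2, by
    have h2 : t.1.1 * t.1.1 = 1 := by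
      rw [← pow_two]; exact orderOf_dvd_iff_pow_eq_one.1 t.1.2.dvd
    refine (congrArg (t.1.1 • ·) t.2).symm.trans ?_
    show t.1.1 • t.1.1 • a = a
    rw [← mul_smul, h2, one_smul]⟩

omit S in
theorem invToSwap_injective {a b : Ω} : Function.Injective (invToSwap (G := G) (a := a) (b := b)) :=
  fun _ _ h => Subtype.ext (Subtype.ext (congrArg (fun z : {g : G // g • a = b ∧ g • b = a} => z.1) h))

/-- Every exchange an involution gives q² involutions. -/
theorem cnt_two_of_swap (h : ∀ (g : G) (a b : Ω), a ≠ b → g • a = b → g • b = a → g * g = 1) :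
    cnt G 2 = q ^ 2 := by
  classical
  haveI := Fintype.ofFinite Ω
  obtain ⟨a⟩ : Nonempty Ω := Finite.card_pos_iff.1 (by rw [S.deg]; omega)
  have hN : ∀ b : {b : Ω // b ≠ a},
      Nat.card {t : {g : G // orderOf g = 2} // t.1 • a = b.1} = q - 1 := by
    intro b
    rw [← S.card_swappers (Ne.symm b.2)]
    refine Nat.card_eq_of_bijective invToSwap ⟨invToSwap_injective, fun g => ?_⟩
    refine ⟨⟨⟨g.1, orderOf_eq_prime (by rw [pow_two]; exact h g.1 a b (Ne.symm b.2) g.2.1 g.2.2)
      fun e => b.2 (by rw [← g.2.1, e, one_smul])⟩, g.2.1⟩, rfl⟩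
  rw [S.cnt_two_eq a, Finset.sum_congr rfl fun b _ => hN b, Finset.sum_const, Finset.card_univ,
    smul_eq_mul, Fintype.card_subtype_compl, Fintype.card_subtype_eq, ← Nat.card_eq_fintype_card,
    S.deg, show q + 1 - 1 = q by omega]
  have := S.lt
  rw [pow_two, Nat.mul_sub_one]
  have : q ≤ q * q := Nat.le_mul_self q
  omega

/-- q² involutions make every exchange an involution. -/
theorem swap_of_cnt_two (h2 : cnt G 2 = q ^ 2) {g : G} {a b : Ω} (hab : a ≠ b) (hga : g • a = b)
    (hgb : g • b = a) : g * g = 1 := by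
  classical
  haveI := Fintype.ofFinite Ω
  have hle : ∀ c : {b : Ω // b ≠ a},
      Nat.card {t : {g : G // orderOf g = 2} // t.1 • a = c.1} ≤ q - 1 := fun c =>
    (Nat.card_le_card_of_injective invToSwap invToSwap_injective).trans
      (S.card_swappers (Ne.symm c.2)).le
  have hsum : ∑ c : {b : Ω // b ≠ a}, Nat.card {t : {g : G // orderOf g = 2} // t.1 • a = c.1} =
      ∑ _c : {b : Ω // b ≠ a}, (q - 1) := by
    have e := S.cnt_two_eq a
    rw [h2] at e
    rw [Finset.sum_const, Finset.card_univ, smul_eq_mul, Fintype.card_subtype_compl,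
      Fintype.card_subtype_eq, ← Nat.card_eq_fintype_card, S.deg, show q + 1 - 1 = q by omega,
      Nat.mul_sub_one]
    rw [pow_two] at e
    omega
  have heq := (Finset.sum_eq_sum_iff_of_le fun c _ => hle c).1 hsum ⟨b, Ne.symm hab⟩ (Finset.mem_univ _)
  obtain ⟨t, ht⟩ := (invToSwap_injective.bijective_of_nat_card_le
    (by rw [S.card_swappers hab, heq])).2 ⟨g, hga, hgb⟩
  have e : t.1.1 = g := congrArg Subtype.val ht
  rw [← e, ← pow_two]
  exact orderOf_dvd_iff_pow_eq_one.1 t.1.2.dvd

theorem twoPt_comm (h2 : cnt G 2 = q ^ 2) {a b : Ω} (hab : a ≠ b) (h k : twoPt G a b) :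
    h * k = k * h := by
  obtain ⟨s, hsa, hsb⟩ := S.zctx.two hab (Ne.symm hab)
  have hinv : ∀ x ∈ twoPt G a b, s * x = x⁻¹ * s := by
    intro x hx
    have h1 := S.swap_of_cnt_two h2 hab hsa hsb
    have h2' := S.swap_of_cnt_two h2 hab (g := x * s)
      (by rw [mul_smul, hsa]; exact hx.2) (by rw [mul_smul, hsb]; exact hx.1)
    calc s * x = x⁻¹ * ((x * s) * (x * s)) * s⁻¹ := by group
      _ = x⁻¹ * s := by rw [h2', mul_one, inv_eq_of_mul_eq_one_right h1]
  have e1 := hinv _ (mul_mem h.2 k.2)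
  have e2 : s * ((h : G) * k) = ((h : G)⁻¹ * (k : G)⁻¹) * s := by
    rw [← mul_assoc, hinv _ h.2, mul_assoc, hinv _ k.2, ← mul_assoc]
  have e3 : ((h : G) * k)⁻¹ = (h : G)⁻¹ * (k : G)⁻¹ := mul_right_cancel (e1.symm.trans e2)
  have e4 := congrArg (·⁻¹) e3
  simp only [inv_inv, mul_inv_rev] at e4
  exact Subtype.ext e4

/-- The number of elements of order p. -/
theorem cnt_p {p f : ℕ} (hp : p.Prime) (hq : q = p ^ f) (_hp2 : p ≠ 2)
    (hiso : ∀ g : G, p ∣ orderOf g → orderOf g = p) : cnt G p = q ^ 2 - 1 := by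
  classical
  haveI := Fintype.ofFinite Ω
  haveI := Fact.mk hp
  have hq1 := S.lt
  have hqp : p ∣ q := by
    rw [hq]
    refine dvd_pow_self p fun e => ?_
    rw [e, pow_zero] at hq
    omega
  have hK : ∀ a : Ω, ∃ F : Subgroup G, IsKernel F a := fun a => by
    obtain ⟨b, hb, -⟩ := exists_third S.h3 a a
    exact S.exists_kernel (Ne.symm hb)
  choose F hF using hK
  have hFc : ∀ a, Nat.card (F a) = q := fun a => by
    obtain ⟨b, hb, -⟩ := exists_third S.h3 a a
    exact S.card_kernel (Ne.symm hb) (hF a)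
  -- an element of order p fixes exactly one point and lies in its kernel
  have hone : ∀ g : G, orderOf g = p → ∃ a, g ∈ F a ∧ g ≠ 1 := by
    intro g hg
    have hg1 : g ≠ 1 := fun e => by rw [e, orderOf_one] at hg; exact hp.ne_one hg.symm
    have hσ : (MulAction.toPerm g : Equiv.Perm Ω) ^ p ^ 1 = 1 := by
      rw [pow_one, ← hg]
      ext x
      have := congrArg (· x) (map_pow (MulAction.toPermHom G Ω) g (orderOf g))
      simp only [pow_orderOf_eq_one, map_one] at this
      exact this.symm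
    have hnd : ¬ p ∣ Fintype.card Ω := by
      rw [← Nat.card_eq_fintype_card, S.deg]
      intro h
      exact hp.ne_one (Nat.dvd_one.1 ((Nat.dvd_add_right hqp).1 h))
    obtain ⟨a, ha⟩ := Equiv.Perm.exists_fixed_point_of_prime hnd hσ
    have hga : g • a = a := ha
    obtain ⟨b, hb, -⟩ := exists_third S.h3 a a
    obtain ⟨u, hu, -⟩ := (hF a).reg b (g • b) hb
      (fun e => hb (MulAction.injective g (e.trans hga.symm)))
    refine ⟨a, ?_, hg1⟩
    by_contra hgF
    -- g = u h with h in the two-point stabiliser; modulo the kernel g has order dividing q - 1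
    let N : Subgroup G := stabilizer G a
    let K : Subgroup N := (F a).subgroupOf N
    haveI : K.Normal := ⟨fun x hx y => by
      rw [mem_subgroupOf] at hx ⊢
      exact (hF a).norm y.1 y.2 _ hx⟩
    have hKidx : K.index ∣ q - 1 := by
      have hsurj : Function.Surjective
          ((QuotientGroup.mk' K).comp (Subgroup.inclusion (inf_le_left : twoPt G a b ≤ N))) := by
        intro z
        obtain ⟨⟨y, hy⟩, rfl⟩ := QuotientGroup.mk'_surjective K z
        obtain ⟨v, hv, -⟩ := (hF a).reg b (y • b) hb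
          (fun e => hb (MulAction.injective y (e.trans (mem_stabilizer_iff.1 hy).symm)))
        refine ⟨⟨(v : G)⁻¹ * y, ?_, ?_⟩, ?_⟩
        · show ((v : G)⁻¹ * y) • a = a
          rw [mul_smul, mem_stabilizer_iff.1 hy, inv_smul_eq_iff, (hF a).fix _ v.2]
        · show ((v : G)⁻¹ * y) • b = b
          rw [mul_smul, ← hv, inv_smul_smul]
        · simp only [MonoidHom.comp_apply, QuotientGroup.mk'_apply]
          rw [QuotientGroup.eq, mem_subgroupOf]
          show ((v : G)⁻¹ * y)⁻¹ * y ∈ F a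
          rw [mul_inv_rev, inv_inv, mul_assoc]
          have := (hF a).norm y⁻¹ (by rw [inv_smul_eq_iff, mem_stabilizer_iff.1 hy]) _ v.2
          simpa [mul_assoc] using this
      rw [← S.card_two (Ne.symm hb), index_eq_card]
      exact card_dvd_of_surjective _ hsurj
    have h1 : orderOf (QuotientGroup.mk' K ⟨g, hga⟩) ∣ p := by
      refine (orderOf_map_dvd _ _).trans ?_
      rw [← Subgroup.orderOf_coe, hg]
    rcases (Nat.dvd_prime hp).1 h1 with h' | h'
    · rw [orderOf_eq_one_iff, QuotientGroup.mk'_apply, QuotientGroup.eq_one_iff] at h'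
      exact hgF h'
    · have h2 : p ∣ q - 1 := h' ▸ (_root_.orderOf_dvd_natCard _).trans (index_eq_card K ▸ hKidx)
      have := Nat.dvd_sub hqp h2
      rw [show q - (q - 1) = 1 by omega] at this
      exact hp.ne_one (Nat.dvd_one.1 this)
  have hord : ∀ a, ∀ g ∈ F a, g ≠ 1 → orderOf g = p := by
    intro a g hg hg1
    refine hiso g ?_
    have h1 : orderOf g ∣ p ^ f := by
      rw [← hq, ← hFc a, ← Subgroup.orderOf_mk _ hg]; exact _root_.orderOf_dvd_natCard _
    obtain ⟨j, -, hj⟩ := (Nat.dvd_prime_pow hp).1 h1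
    rw [hj]
    exact dvd_pow_self p fun e => hg1 (orderOf_eq_one_iff.1 (by rw [hj, e, pow_zero]))
  let φ : (Σ a : Ω, {g : F a // g ≠ 1}) → {g : G // orderOf g = p} := fun z =>
    ⟨z.2.1.1, hord z.1 _ z.2.1.2 fun e => z.2.2 (Subtype.ext e)⟩
  have hφ : Function.Bijective φ := by
    constructor
    · rintro ⟨a, ⟨g, hg⟩, hg1⟩ ⟨b, ⟨g', hg'⟩, hg1'⟩ h
      have e : g = g' := congrArg Subtype.val h
      subst e
      have hab : a = b := by
        by_contra hne
        exact hg1 (Subtype.ext ((hF a).eq_one_of_fix hg (Ne.symm hne) ((hF b).fix g hg')))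
      subst hab
      rfl
    · rintro ⟨g, hg⟩
      obtain ⟨a, ha, hg1⟩ := hone g hg
      exact ⟨⟨a, ⟨g, ha⟩, fun e => hg1 (congrArg Subtype.val e)⟩, rfl⟩
  have hs : ∀ a, Nat.card {g : F a // g ≠ 1} = q - 1 := fun a => by
    haveI := Fintype.ofFinite (F a)
    rw [Nat.card_eq_fintype_card, Fintype.card_subtype_compl, Fintype.card_subtype_eq,
      ← Nat.card_eq_fintype_card, hFc a]
  rw [cnt, ← Nat.card_eq_of_bijective φ hφ, Nat.card_sigma, Finset.sum_congr rfl fun a _ => hs a,
    Finset.sum_const, Finset.card_univ, ← Nat.card_eq_fintype_card, S.deg, smul_eq_mul]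
  simpa using (Nat.sq_sub_sq q 1).symm

end Sharp

end Cfsg.Agent.NsePGL
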